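import Cfsg.Prelude.Def_ConjugacyFunctors

/-!
Monotonicity and stabilisation of the K-sequence of a group.
-/

set_option autoImplicit false

namespace Cfsg.Agent.Techniques

variable {P : Type*} [Group P]

theorem kLowerStarFamily_anti {Q R : Subgroup P} (h : Q ≤ R) :
    kLowerStarFamily R ⊆ kLowerStarFamily Q := fun _ hB =>
  ⟨hB.1, h.trans hB.2.1, fun A hA hAQ => hB.2.2 A hA (hAQ.trans h)⟩

theorem kUpperStarFamily_anti {Q R : Subgroup P} (h : Q ≤ R) :
    kUpperStarFamily R ⊆ kUpperStarFamily Q := fun B hB =>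
  ⟨hB.1, (Subgroup.commutator_mono le_rfl h).trans hB.2⟩

theorem kSeqOdd_succ (n : ℕ) :
    kSeqOdd P (n + 1) = sSup (kUpperStarFamily (kSeqEven P n)) := rfl

theorem kSeqEven_eq (n : ℕ) : kSeqEven P n = sSup (kLowerStarFamily (kSeqOdd P n)) := rfl

theorem kSeqOdd_succ_le (n : ℕ) : kSeqOdd P (n + 1) ≤ kSeqOdd P n := by
  induction n with
  | zero => exact le_top
  | succ n ih =>
    exact sSup_le_sSup (kUpperStarFamily_anti (sSup_le_sSup (kLowerStarFamily_anti ih)))

theorem kSeqOdd_antitone : Antitone (kSeqOdd P) := antitone_nat_of_succ_le kSeqOdd_succ_le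

theorem kSeqEven_monotone : Monotone (kSeqEven P) :=
  fun _ _ h => sSup_le_sSup (kLowerStarFamily_anti (kSeqOdd_antitone h))

theorem exists_forall_kSeq_eq [Finite P] : ∃ n : ℕ, ∀ m : ℕ, n ≤ m →
    kSeqEven P m = kInfLower P ∧ kSeqOdd P m = kInfUpper P := by
  obtain ⟨a, ha⟩ := WellFoundedGT.monotone_chain_condition
    (⟨kSeqEven P, kSeqEven_monotone⟩ : ℕ →o Subgroup P)
  obtain ⟨b, hb⟩ := WellFoundedGT.monotone_chain_condition
    (⟨fun n => OrderDual.toDual (kSeqOdd P n), kSeqOdd_antitone⟩ : ℕ →o (Subgroup P)ᵒᵈ)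
  refine ⟨max a b, fun m hm => ⟨le_antisymm (le_iSup (kSeqEven P) m) (iSup_le fun i => ?_),
    le_antisymm (le_iInf fun i => ?_) (iInf_le _ m)⟩⟩
  · calc kSeqEven P i ≤ kSeqEven P (max i a) := kSeqEven_monotone (le_max_left _ _)
      _ = kSeqEven P a := (ha _ (le_max_right _ _)).symm
      _ ≤ kSeqEven P m := kSeqEven_monotone ((le_max_left _ _).trans hm)
  · calc kSeqOdd P m ≤ kSeqOdd P b := kSeqOdd_antitone ((le_max_right _ _).trans hm)
      _ = kSeqOdd P (max i b) := hb _ (le_max_right _ _)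
      _ ≤ kSeqOdd P i := kSeqOdd_antitone (le_max_left _ _)

end Cfsg.Agent.Techniques
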