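import Mathlib.GroupTheory.SpecificGroups.KleinFour
import Mathlib.GroupTheory.Subgroup.Centralizer
import Mathlib.GroupTheory.Subgroup.Simple

/-!
A four-group all of whose involutions are conjugate to one acting fixed-point-freely on every proper
normal subgroup forces simplicity.
-/

set_option autoImplicit false

namespace Cfsg.Agent.Techniques

variable {H : Type*} [Group H] [Finite H]

/-- Key fact: every proper normal subgroup is trivial. -/
theorem eq_bot_of_fourGroup (z : H) (hz : orderOf z = 2)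
    (hN : ∀ N : Subgroup H, N.Normal → N ≠ ⊤ → N ⊓ Subgroup.centralizer ({z} : Set H) = ⊥)
    (E : Subgroup H) (hE : IsKleinFour ↥E) (hzE : z ∈ E) (hc : ∀ e ∈ E, e ≠ 1 → IsConj z e)
    (N : Subgroup H) [N.Normal] (hne : N ≠ ⊤) : N = ⊥ := by
  -- each involution of `E` acts fixed point freely on `N`, hence inverts it
  have hfix : ∀ e ∈ E, e ≠ 1 → ∀ n ∈ N, e * n = n * e → n = 1 := by
    intro e he he1 n hn hcomm
    obtain ⟨g, hg⟩ := isConj_iff.1 (hc e he he1)
    have hm : g⁻¹ * n * g ∈ N ⊓ Subgroup.centralizer ({z} : Set H) := by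
      refine ⟨by simpa using ‹N.Normal›.conj_mem n hn g⁻¹, Subgroup.mem_centralizer_singleton_iff.2 ?_⟩
      rw [← hg] at hcomm
      have := congrArg (fun w => g⁻¹ * w * g) hcomm
      simp only [mul_assoc, inv_mul_cancel_left, inv_mul_cancel, mul_one] at this ⊢
      exact this.symm
    rw [hN N inferInstance hne, Subgroup.mem_bot] at hm
    have := congrArg (fun w => g * w * g⁻¹) hm
    simpa [mul_assoc] using this
  have hinv : ∀ e ∈ E, e ≠ 1 → ∀ n ∈ N, e * n * e⁻¹ = n⁻¹ := by
    intro e he he1 n hn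
    have hee : e * e = 1 := by
      have := congrArg Subtype.val (hE.mul_self (⟨e, he⟩ : E))
      simpa using this
    let f : N → N := fun m => ⟨(m : H)⁻¹ * (e * m * e⁻¹),
      N.mul_mem (N.inv_mem m.2) (‹N.Normal›.conj_mem _ m.2 e)⟩
    have hf : Function.Injective f := by
      intro a b hab
      have h1 : (a : H)⁻¹ * (e * a * e⁻¹) = (b : H)⁻¹ * (e * b * e⁻¹) := congrArg Subtype.val hab
      have h2 := hfix e he he1 ((b : H) * (a : H)⁻¹) (N.mul_mem b.2 (N.inv_mem a.2)) (by
        have h3 := congrArg (fun w => (b : H) * w * e * (a : H)⁻¹) h1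
        simp only [mul_assoc, mul_inv_cancel_left, inv_mul_cancel_left, inv_mul_cancel, mul_one,
          mul_inv_cancel] at h3 ⊢
        exact h3.symm)
      exact Subtype.ext (by rwa [mul_inv_eq_one, eq_comm] at h2)
    obtain ⟨m, hm⟩ := (Finite.injective_iff_surjective.1 hf) ⟨n, hn⟩
    have hm' : n = (m : H)⁻¹ * (e * m * e⁻¹) := (congrArg Subtype.val hm).symm
    have he' : e⁻¹ = e := inv_eq_of_mul_eq_one_right hee
    rw [hm', he']
    simp [mul_assoc, he', ← mul_assoc e e, hee]
  obtain ⟨e, he, he1, hez⟩ : ∃ e ∈ E, e ≠ 1 ∧ e ≠ z := by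
    by_contra h
    push Not at h
    have : (E : Set H) ⊆ {1, z} := fun x hx => by
      rcases eq_or_ne x 1 with h1 | h1
      · exact Or.inl h1
      · exact Or.inr (h x hx h1)
    have h4 : Nat.card E ≤ 2 := le_trans (Nat.card_mono (Set.toFinite _) this) (by
      rw [Nat.card_coe_set_eq]; exact le_trans (Set.ncard_insert_le _ _) (by simp))
    rw [hE.card_four] at h4
    omega
  have hz1 : z ≠ 1 := fun h => by rw [h, orderOf_one] at hz; omega
  have hze : z * e ≠ 1 := fun h => hez (by
    have : z * z = 1 := by rw [← pow_two, ← hz]; exact pow_orderOf_eq_one z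
    exact (mul_left_cancel (h.trans this.symm)))
  rw [Subgroup.eq_bot_iff_forall]
  intro n hn
  refine hfix (z * e) (E.mul_mem hzE he) hze n hn ?_
  have h1 := hinv e he he1 n hn
  have h2 := hinv z hzE hz1 n⁻¹ (N.inv_mem hn)
  rw [inv_inv, ← h1] at h2
  have := congrArg (fun w => w * z * e) h2
  simp only [mul_assoc, inv_mul_cancel_left, inv_mul_cancel, mul_one] at this ⊢
  rw [← mul_assoc z e]
  simpa [mul_assoc] using this

theorem nontrivial_of_orderOf_eq_two (z : H) (hz : orderOf z = 2) : Nontrivial H :=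
  ⟨z, 1, fun h => by rw [h, orderOf_one] at hz; omega⟩

end Cfsg.Agent.Techniques
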